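import Cfsg.Prelude.Def_LieTypeChar
import Cfsg.Prelude.Def_Classification2
import Cfsg.Agent.S0249
import Cfsg.Agent.TwoFusion.SLTwoFacts
import Cfsg.Agent.S0270
import Cfsg.Agent.S0283
import Cfsg.Agent.S0295
import Cfsg.Agent.S0296
import Cfsg.Agent.S0297
import Cfsg.Agent.S1054
import Cfsg.Agent.S1055
import Cfsg.Agent.S1070
import Cfsg.Agent.S1071
import Cfsg.Agent.S1072
import Cfsg.Agent.S1073
import Cfsg.Agent.S1162
import Cfsg.Agent.Prune
set_option linter.all false
prune_inst 0x7f00000000000000000000000000000000000000000000000000000000000000000000000000000000000000000000000000000000000000000000000000000000000000000000000000000000000000003fffffffffffffffffffffffffffbeffbdffffffff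
open scoped Cfsg.Agent.FastGrp

/-!
# The groups of `IsLieTypeChar p` are simple (helper974)
-/

set_option autoImplicit false

namespace Cfsg.Agent.H974.LieSimple

open Cfsg Subgroup

theorem simple_congr {G H : Type*} [Group G] [Group H] (e : G ≃* H) (h : IsSimpleGroup H) : IsSimpleGroup G :=
  (MulEquiv.isSimpleGroup_congr e).2 h

theorem of_psl {p : ℕ} {G : Type*} [Group G] (h : IsPSLChar p G) : IsSimpleGroup G := by
  obtain ⟨F, _, _, _, n, hn, h4, ⟨e⟩⟩ := h
  refine simple_congr e ?_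
  rcases eq_or_lt_of_le hn with h2 | h3
  · subst h2
    exact Cfsg.Agent.TwoFusion.SLTwoFacts.isSimpleGroup_psl (by have := h4 rfl; omega)
  · exact Cfsg.Agent.S0249.result n h3

theorem of_psp {p : ℕ} {G : Type*} [Group G] (h : IsPSpChar p G) : IsSimpleGroup G := by
  obtain ⟨F, _, _, _, m, hm, h3, ⟨e⟩⟩ := h
  exact simple_congr e (Cfsg.Agent.S0270.result m hm h3)

theorem of_psu {p : ℕ} {G : Type*} [Group G] (h : IsPSUChar p G) : IsSimpleGroup G := by
  obtain ⟨F, _, _, _, n, q, hF, hn, h3, ⟨e⟩⟩ := h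
  exact simple_congr e (Cfsg.Agent.S0283.result hF n hn h3)

theorem of_odd {p : ℕ} {G : Type*} [Group G] (h : IsPOmegaOddChar p G) : IsSimpleGroup G := by
  obtain ⟨F, _, _, _, m, hm, ho, ⟨e⟩⟩ := h
  exact simple_congr e (Cfsg.Agent.S0295.result ho m hm)

theorem of_plus {p : ℕ} {G : Type*} [Group G] (h : IsPOmegaPlusChar p G) : IsSimpleGroup G := by
  obtain ⟨F, _, _, _, m, hm, ⟨e⟩⟩ := h
  exact simple_congr e (Cfsg.Agent.S0296.result m hm)

theorem of_minus {p : ℕ} {G : Type*} [Group G] (h : IsPOmegaMinusChar p G) : IsSimpleGroup G := by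
  obtain ⟨F, _, _, _, m, a, b, hm, hab, ⟨e⟩⟩ := h
  exact simple_congr e (Cfsg.Agent.S0297.result m hm a b hab)

theorem of_chev {p : ℕ} {G : Type*} [Group G] (h : IsExceptionalChevChar p G) : IsSimpleGroup G := by
  obtain ⟨F, _, _, _, ⟨h3, ⟨e⟩⟩ | ⟨⟨e⟩⟩ | ⟨⟨e⟩⟩ | ⟨⟨e⟩⟩ | ⟨⟨e⟩⟩⟩ := h
  · refine simple_congr e (Cfsg.Agent.S1055.result ?_).1
    classical
    obtain ⟨a, ha⟩ : ∃ a : F, a ∉ ({0, 1} : Finset F) := by
      by_contra hcon
      push_neg at hcon
      have h1 : Fintype.card F ≤ ({0, 1} : Finset F).card := by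
        rw [← Finset.card_univ]
        exact Finset.card_le_card fun x _ => hcon x
      have h2 : ({0, 1} : Finset F).card ≤ 2 := Finset.card_le_two
      omega
    rw [Finset.mem_insert, Finset.mem_singleton, not_or] at ha
    exact ⟨a, ha.1, ha.2⟩
  · exact simple_congr e (Cfsg.Agent.S1054.result _ (by simp)).1
  · exact simple_congr e (Cfsg.Agent.S1054.result _ (by simp)).1
  · exact simple_congr e (Cfsg.Agent.S1054.result _ (by simp)).1
  · exact simple_congr e (Cfsg.Agent.S1054.result _ (by simp)).1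

theorem of_twisted {p : ℕ} {G : Type*} [Group G] (h : IsTwistedE6D4Char p G) : IsSimpleGroup G := by
  obtain ⟨K, _, _, _, q, hq, ⟨hK, ⟨e⟩⟩ | ⟨hK, ⟨e⟩⟩⟩ := h
  · exact simple_congr e (Cfsg.Agent.S1070.result hq hK).1
  · exact simple_congr e (Cfsg.Agent.S1071.result hq hK).1

theorem of_sz {G : Type*} [Group G] (h : Lie.IsoSuzuki G) : IsSimpleGroup G := by
  obtain ⟨F, _, _, m, hm, hF, ⟨e⟩⟩ := h
  exact simple_congr e (Cfsg.Agent.S1162.result hm hF)

theorem of_2f4 {G : Type*} [Group G] (h : Lie.Iso2F4 G) : IsSimpleGroup G := by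
  obtain ⟨F, _, _, m, hm, hF, ⟨e⟩⟩ := h
  exact simple_congr e (Cfsg.Agent.S1072.result hm hF).1

theorem of_ree {G : Type*} [Group G] (h : Lie.IsoRee G) : IsSimpleGroup G := by
  obtain ⟨F, _, _, m, hm, hF, ⟨e⟩⟩ := h
  exact simple_congr e (Cfsg.Agent.S1073.result hm hF).1

/-- **KNOWN-GROUP FACT: a group of Lie type is simple.** -/
theorem simple_of_lie {p : ℕ} {G : Type*} [Group G] (h : IsLieTypeChar p G) : IsSimpleGroup G := by
  rcases h with h | h | h | h | h | h | h | h | ⟨-, h⟩ | ⟨-, h⟩ | ⟨-, h⟩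
  · exact of_psl h
  · exact of_psp h
  · exact of_psu h
  · exact of_odd h
  · exact of_plus h
  · exact of_minus h
  · exact of_chev h
  · exact of_twisted h
  · exact of_sz h
  · exact of_2f4 h
  · exact of_ree h

end Cfsg.Agent.H974.LieSimple
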