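import Cfsg.Agent.H974.SKlein
import Cfsg.Agent.H974.LLin_mg_m3
import Cfsg.Agent.H557.LrE7
import Cfsg.Agent.H311.NoL33
import Cfsg.Agent.H538.ExcF4Row
import Cfsg.Agent.H538.ExcTwE6
import Cfsg.Agent.LieClassical.FieldTransfer
import Cfsg.Agent.H294.Gen
import Cfsg.Agent.SignalizersComponents.StandardTrichotomy
import Cfsg.Agent.Prune
set_option linter.all false
prune_inst 0x7f00000000000000000000000000000000000000000000000000000000000000000000000000000000000000000000000000000000000000000000000000000000000000000000000000000000000000003fffffffffffffffffffffffffffbeffbdffffffff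
open scoped Cfsg.Agent.FastGrp

/-!
# Standard subgroups `L₃(3)`: the exceptional groups of characteristic three (helper974)
-/

set_option autoImplicit false

namespace Cfsg.Agent.H974.SForty

open Cfsg Subgroup Cfsg.Agent.SignalizersComponents Cfsg.Agent.SignalizersComponents.Components
  Cfsg.Agent.H284.FStd Cfsg.Agent.H293 Cfsg.Agent.H974.SKlein

universe u v

section exc

variable {X : Type u} [Group X]

theorem dvd_of_typ {t : NotCT.Typ} {k : ℕ} (hv : t.Valid 3 k) (h : NotCT.IsTyp t (3 ^ k) X) (hk : 1 ≤ k)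
    (hN : 5 ≤ t.N) : 3 ^ 5 ∣ Nat.card X :=
  (pow_dvd_pow 3 (by nlinarith)).trans (NotCT.dvd_card Nat.prime_three hv (NotCT.card_eq Nat.prime_three hv h))

theorem five_dvd (h : IsExceptionalChevChar 3 X ∨ IsTwistedE6D4Char 3 X) : 3 ^ 5 ∣ Nat.card X := by
  rcases h with ⟨F, _, _, _, h⟩ | ⟨F, _, _, _, q, -, h⟩
  · obtain ⟨a, ha, hF⟩ := NotCT.card_pow F 3
    rcases h with ⟨h2, h3⟩ | h3 | h3 | h3 | h3
    · exact dvd_of_typ (t := .G2) ⟨ha, hF ▸ h2⟩ ⟨F, _, _, hF, h3⟩ ha (by decide)
    · exact dvd_of_typ (t := .F4) ha ⟨F, _, _, hF, h3⟩ ha (by decide)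
    · exact dvd_of_typ (t := .E6) ha ⟨F, _, _, hF, h3⟩ ha (by decide)
    · exact dvd_of_typ (t := .E7) ha ⟨F, _, _, hF, h3⟩ ha (by decide)
    · exact dvd_of_typ (t := .E8) ha ⟨F, _, _, hF, h3⟩ ha (by decide)
  · obtain ⟨a, ha, hF⟩ := NotCT.card_pow F 3
    rcases h with ⟨hq, h3⟩ | ⟨hq, h3⟩
    · obtain ⟨k, hk, rfl⟩ := NotCT.exists_root Nat.prime_three two_ne_zero ha (hq.symm.trans hF)
      exact dvd_of_typ (t := .TE6) hk ⟨F, _, _, hq, h3⟩ hk (by decide)
    · obtain ⟨k, hk, rfl⟩ := NotCT.exists_root Nat.prime_three three_ne_zero ha (hq.symm.trans hF)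
      exact dvd_of_typ (t := .TD4) hk ⟨F, _, _, hq, h3⟩ hk (by decide)

theorem com3_of {Y : Type*} [Group Y] (e : X ≃* Y) {x : MulAut X} (h : Exc.Com3 3 (MulAut.congr e x)) : Exc.Com3 3 x := by
  have h1 := h.congr e.symm
  have h2 : MulAut.congr e.symm (MulAut.congr e x) = x := (MulAut.congr e).symm_apply_apply x
  rwa [h2] at h1

/-- **Three commuting groups, or `G₂(q)`, `³D₄(q)`.** -/
theorem com3_or {x : MulAut X} (hxx : x * x = 1) (hx1 : x ≠ 1)
    (h : IsExceptionalChevChar 3 X ∨ IsTwistedE6D4Char 3 X) :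
    Exc.Com3 3 x ∨ (∃ (E M : Type) (_ : Field E) (_ : Finite E) (σ : E ≃+* E) (_ : Group M) (_ : Finite M),
      (2 : E) ≠ 0 ∧ Nonempty (Cit.HexBase.HexGrp σ M) ∧ Nonempty (X ≃* M)) := by
  have hp3 : Fact (Nat.Prime 3) := ⟨Nat.prime_three⟩
  have key : ∀ {Y : Type} [Group Y] (e : X ≃* Y), (∀ y, MulAut.congr e x (MulAut.congr e x y) = y) ∧
      MulAut.congr e x ≠ 1 := by
    intro Y _ e
    refine ⟨fun y => ?_, fun h0 => hx1 ?_⟩
    · have h1 : MulAut.congr e x * MulAut.congr e x = 1 := by rw [← map_mul, hxx, map_one]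
      exact DFunLike.congr_fun h1 y
    · have h4 : MulAut.congr e x = MulAut.congr e 1 := by rw [h0, map_one]
      exact (MulAut.congr e).injective h4
  have h2 : ∀ (F : Type) [Field F] [CharP F 3], (2 : F) ≠ 0 := by
    intro F _ _
    exact H311.two_ne_of_char_three
  rcases h with ⟨F, _, _, _, h⟩ | ⟨F, _, _, _, q, hq, h⟩
  · rcases h with ⟨-, ⟨e⟩⟩ | ⟨⟨e⟩⟩ | ⟨⟨e⟩⟩ | ⟨⟨e⟩⟩ | ⟨⟨e⟩⟩
    · right
      exact ⟨F, ↥(Lie.chevG2.group F), inferInstance, inferInstance, _, inferInstance, inferInstance, h2 F,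
        ⟨Cit.HexG2.g2 F (h2 F)⟩, ⟨e⟩⟩
    · exact Or.inl (com3_of e (H538.F4S.f4 F (by norm_num) _ (key e).1 (key e).2))
    · exact Or.inl (com3_of e (Exc.e6 F (by norm_num) _ (key e).1 (key e).2))
    · exact Or.inl (com3_of e (Exc.e7 F (by norm_num) _ (key e).1 (key e).2))
    · exact Or.inl (com3_of e (Exc.e8 F (by norm_num) _ (key e).1 (key e).2))
  · rcases h with ⟨hK, ⟨e⟩⟩ | ⟨hK, ⟨e⟩⟩
    · exact Or.inl (com3_of e (H538.F4S.te6 (by norm_num) hq hK _ (key e).1 (key e).2))
    · right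
      obtain ⟨σ, -, hc⟩ := Cit.HexD4.exists_d4 hK
      exact ⟨F, ↥(Lie.twistedD4 F q), inferInstance, inferInstance, σ, inferInstance, inferInstance, h2 F, hc, ⟨e⟩⟩

/-- no inner involution in `G₂(q)`, `³D₄(q)` -/
theorem hex_false [Finite X] {E M : Type} [Field E] [Finite E] {σ : E ≃+* E} [Group M] [Finite M] (h2 : (2 : E) ≠ 0)
    (c : Cit.HexBase.HexGrp σ M) (f : X ≃* M) {t : X} (ht : orderOf t = 2) (A : Subgroup X)
    {F : Type} [Field F] [Fintype F] (hF : Fintype.card F = 3)
    (e : ↥A ≃* Matrix.ProjectiveSpecialLinearGroup (Fin 3) F) (hA : ∀ a ∈ A, a * t = t * a) : False := by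
  obtain ⟨h3, h2'⟩ := LThree.three_two hF
  have hs := LThree.simple F
  obtain ⟨x, y, hyx, hxy, hx⟩ := H311.psl_q8 h3 h2'
  have htt : t * t = 1 := by rw [← pow_two, ← ht, pow_orderOf_eq_one]
  have ht1 : t ≠ 1 := fun h => by rw [h, orderOf_one] at ht; omega
  refine H311.hex_no_q8 c h2 (t := f t) (by rw [← map_mul, htt, map_one])
    (fun h => ht1 (f.injective (by rw [h, map_one]))) (f.toMonoidHom.comp (A.subtype.comp e.symm.toMonoidHom))
    (f.injective.comp (A.subtype_injective.comp e.symm.injective)) (fun a => ?_) hyx hxy hx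
  change f (e.symm a : X) * f t = f t * f (e.symm a : X)
  rw [← map_mul, ← map_mul, hA _ (e.symm a).2]

end exc

section std

variable {G : Type u} [Group G] [Finite G] {X L : Subgroup G} [hX : X.Normal] {F : Type} [Field F] [Fintype F]

/-- no four-group: commuting involutions of `C_G(L)` are equal -/
theorem eq_of_not_four (h : ¬ Four L) {u v : G} (hu : u ∈ centralizer (L : Set G)) (hv : v ∈ centralizer (L : Set G))
    (hu2 : orderOf u = 2) (hv2 : orderOf v = 2) (huv : u * v = v * u) : u = v := by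
  by_contra hne
  exact h ⟨u, v, hu, hv, hu2, hv2, huv, hne⟩

/-- the outer case -/
theorem cfg_of_not_mem (hC : centralizer (X : Set G) = ⊥) (hL : IsStandardSubgroup L) (hLX : L ≤ X) {t : G}
    (ht : orderOf t = 2) (htL : t ∈ centralizer (L : Set G)) (htX : t ∉ X) (hnf : ¬ Four L) :
    Cfg (MulAut.conjNormal t : MulAut ↥X) (L.subgroupOf X) := by
  obtain ⟨h3, h4, h5⟩ := comp_fix hC hL hLX ht htL
  refine ⟨h3, h4, le_fix htL, ?_, (isQuasisimple_congr (subgroupOfEquivOfLe hLX)).2 hL.1, ?_⟩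
  · intro g hg a ha
    have hg' : (g : G) ∈ centralizer ({t} : Set G) := by
      rw [mem_centralizer_singleton_iff]
      exact (mem_fix.1 hg).symm
    exact (mem_normalizer_iff.1 (StandardTrichotomy.centralizer_involution_le hL ht htL hg') _).1 ha
  · intro R
    have : Fact (Nat.Prime 2) := ⟨Nat.prime_two⟩
    have hR : (R : Subgroup ↥(centralizer ((L.subgroupOf X : Subgroup ↥X) : Set ↥X) ⊓
        fixedSubgroup (MulAut.conjNormal t : MulAut ↥X))) = ⊥ := by
      by_contra hne
      have hnt : Nontrivial ↥(R : Subgroup ↥(centralizer ((L.subgroupOf X : Subgroup ↥X) : Set ↥X) ⊓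
        fixedSubgroup (MulAut.conjNormal t : MulAut ↥X))) := (nontrivial_iff_ne_bot _).2 hne
      have h6 : 2 ∣ Nat.card ↥(R : Subgroup ↥(centralizer ((L.subgroupOf X : Subgroup ↥X) : Set ↥X) ⊓
        fixedSubgroup (MulAut.conjNormal t : MulAut ↥X))) := by
        obtain ⟨n, hn⟩ := IsPGroup.iff_card.1 R.2
        rw [hn]
        refine dvd_pow_self 2 ?_
        rintro rfl
        rw [pow_zero] at hn
        have := Finite.one_lt_card (α := ↥(R : Subgroup ↥(centralizer ((L.subgroupOf X : Subgroup ↥X) : Set ↥X) ⊓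
          fixedSubgroup (MulAut.conjNormal t : MulAut ↥X))))
        omega
      obtain ⟨r, hr⟩ := exists_prime_orderOf_dvd_card' 2 h6
      have hr' : orderOf (((r : ↥(centralizer ((L.subgroupOf X : Subgroup ↥X) : Set ↥X) ⊓
          fixedSubgroup (MulAut.conjNormal t : MulAut ↥X))) : ↥X) : G) = 2 := by
        rw [Subgroup.orderOf_coe, Subgroup.orderOf_coe, Subgroup.orderOf_coe, hr]
      have hrm := mem_inf.1 (r : ↥(centralizer ((L.subgroupOf X : Subgroup ↥X) : Set ↥X) ⊓
          fixedSubgroup (MulAut.conjNormal t : MulAut ↥X))).2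
      have hrL : (((r : ↥(centralizer ((L.subgroupOf X : Subgroup ↥X) : Set ↥X) ⊓
          fixedSubgroup (MulAut.conjNormal t : MulAut ↥X))) : ↥X) : G) ∈ centralizer (L : Set G) := by
        rw [mem_centralizer_iff]
        intro l hl
        have h7 := mem_centralizer_iff.1 hrm.1 ⟨l, hLX hl⟩ (mem_subgroupOf.2 hl)
        exact congrArg Subtype.val h7
      have h8 := eq_of_not_four hnf htL hrL ht hr' (mem_fix.1 hrm.2)
      apply htX
      rw [h8]
      exact SetLike.coe_mem _
    rw [hR]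
    infer_instance

/-- **The exceptional groups.** -/
theorem exc_false (hC : centralizer (X : Set G) = ⊥) [IsSimpleGroup ↥X]
    (h : IsExceptionalChevChar 3 ↥X ∨ IsTwistedE6D4Char 3 ↥X) (hL : IsStandardSubgroup L) (hLX : L ≤ X)
    (hF : Fintype.card F = 3) (e : ↥L ≃* Matrix.ProjectiveSpecialLinearGroup (Fin 3) F) {t : G}
    (ht : orderOf t = 2) (htL : t ∈ centralizer (L : Set G)) : False := by
  have hlie : IsLieTypeChar 3 ↥X := by unfold IsLieTypeChar; itauto
  by_cases hf : Four L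
  · exact no_four hC hlie (five_dvd h) hL hLX hF e hf
  · obtain ⟨h3, h4, h5⟩ := comp_fix hC hL hLX ht htL
    have hsL : IsSimpleGroup (Matrix.ProjectiveSpecialLinearGroup (Fin 3) F) := LThree.simple F
    have eq : (Matrix.ProjectiveSpecialLinearGroup (Fin 3) F ⧸ center (Matrix.ProjectiveSpecialLinearGroup (Fin 3) F)) ≃*
        Matrix.ProjectiveSpecialLinearGroup (Fin 3) F :=
      (QuotientGroup.quotientMulEquivOfEq (LThree.center_bot hF)).trans QuotientGroup.quotientBot
    have quo : ∀ {B : Type u} [Group B] (_ : B ≃* ↥L), Nonempty ((B ⧸ center B) ≃* Matrix.ProjectiveSpecialLinearGroup (Fin 3) F) := by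
      intro B _ f
      have hb := H283.OddComp.exists_quoEquiv (f.trans e)
      exact hb.map fun g => g.trans eq
    rcases com3_or h3 h4 h with h1 | ⟨E, M, _, _, σ, _, _, h2, ⟨c⟩, ⟨f⟩⟩
    · obtain ⟨g⟩ := quo (BBequiv hLX htL)
      refine H811.QuatCom.no_com3 h1 (A := BB X L t) ?_ h5.2 hF g ?_
      · refine ⟨fun a ha y => ?_⟩
        have hy : ((y : ↥X) : G) ∈ centralizer ({t} : Set G) := by
          rw [mem_centralizer_singleton_iff]
          exact (mem_fix.1 y.2).symm
        exact (mem_normalizer_iff.1 (StandardTrichotomy.centralizer_involution_le hL ht htL hy) _).1 ha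
      · intro a b ha hb ha2 hb2 hab
        have key : ∀ {w : ↥(fixedSubgroup (MulAut.conjNormal t : MulAut ↥X))}, w ∈ centralizer ((BB X L t : Subgroup _) :
            Set ↥(fixedSubgroup (MulAut.conjNormal t : MulAut ↥X))) → ((w : ↥X) : G) ∈ centralizer (L : Set G) := by
          intro w hw
          rw [mem_centralizer_iff]
          intro l hl
          have h7 := mem_centralizer_iff.1 hw ⟨⟨l, hLX hl⟩, le_fix htL (mem_subgroupOf.2 hl)⟩ hl
          exact congrArg (fun z : ↥(fixedSubgroup (MulAut.conjNormal t : MulAut ↥X)) => ((z : ↥X) : G)) h7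
        have h8 := eq_of_not_four hf (key ha) (key hb) (by rw [Subgroup.orderOf_coe, Subgroup.orderOf_coe, ha2])
          (by rw [Subgroup.orderOf_coe, Subgroup.orderOf_coe, hb2])
          (congrArg (fun z : ↥(fixedSubgroup (MulAut.conjNormal t : MulAut ↥X)) => ((z : ↥X) : G)) hab)
        exact Subtype.ext (Subtype.ext h8)
    · by_cases htX : t ∈ X
      · refine hex_false h2 c f (t := ⟨t, htX⟩) (by rw [Subgroup.orderOf_mk, ht]) (L.subgroupOf X) hF
          ((subgroupOfEquivOfLe hLX).trans e) ?_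
        intro a ha
        exact Subtype.ext (mem_centralizer_iff.1 htL (a : G) (mem_subgroupOf.1 ha))
      · have hcf := cfg_of_not_mem hC hL hLX ht htL htX hf
        obtain ⟨g⟩ := quo (subgroupOfEquivOfLe hLX)
        exact LExc.exc_cyc hcf h hF g

/-- **`F*(G)` simple.** -/
theorem simple_case (hC : centralizer (X : Set G) = ⊥) [IsSimpleGroup ↥X] (hna : ¬ IsMulCommutative ↥X)
    (hk : IsKnownSimple' ↥X) (hL : IsStandardSubgroup L) (hLX : L ≤ X)
    (hF : Fintype.card F = 3) (e : ↥L ≃* Matrix.ProjectiveSpecialLinearGroup (Fin 3) F) {t : G}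
    (ht : orderOf t = 2) (htL : t ∈ centralizer (L : Set G)) :
    (∃ (K : Type) (_ : Field K) (_ : Fintype K), Fintype.card K = 9 ∧
      Nonempty (↥X ≃* Matrix.ProjectiveSpecialLinearGroup (Fin 3) K)) ∨
    (∃ (K : Type) (_ : Field K) (_ : Fintype K), Fintype.card K = 3 ∧
      (Nonempty (↥X ≃* Matrix.ProjectiveSpecialLinearGroup (Fin 4) K) ∨
        Nonempty (↥X ≃* Matrix.ProjectiveSpecialLinearGroup (Fin 5) K) ∨ Nonempty (↥X ≃* PSp 3 K))) := by
  obtain ⟨h3, h4, h5⟩ := comp_fix hC hL hLX ht htL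
  have eq : (Matrix.ProjectiveSpecialLinearGroup (Fin 3) F ⧸ center (Matrix.ProjectiveSpecialLinearGroup (Fin 3) F)) ≃*
      Matrix.ProjectiveSpecialLinearGroup (Fin 3) F :=
    (QuotientGroup.quotientMulEquivOfEq (LThree.center_bot hF)).trans QuotientGroup.quotientBot
  obtain ⟨g⟩ := H283.OddComp.exists_quoEquiv ((BBequiv hLX htL).trans e)
  have hBn : (BB X L t).Normal := by
    refine ⟨fun a ha y => ?_⟩
    have hy : ((y : ↥X) : G) ∈ centralizer ({t} : Set G) := by
      rw [mem_centralizer_singleton_iff]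
      exact (mem_fix.1 y.2).symm
    exact (mem_normalizer_iff.1 (StandardTrichotomy.centralizer_involution_le hL ht htL hy) _).1 ha
  rcases LRows.rows hna hk h3 h4 hBn h5 hF (g.trans eq) with h1 | h1 | ⟨K, _, _, hK, h1⟩ | ⟨K, _, _, n, f, -, h1⟩
  · exact (exc_false hC h1 hL hLX hF e ht htL).elim
  · exact Or.inl h1
  · exact Or.inr ⟨K, inferInstance, inferInstance, hK, Or.inr (Or.inr h1)⟩
  · right
    have hK : Fintype.card K = 3 := by rw [← Nat.card_eq_fintype_card]; exact h1.1
    refine ⟨K, inferInstance, inferInstance, hK, ?_⟩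
    have hne : MulAut.congr f (MulAut.conjNormal t : MulAut ↥X) ≠ 1 := by
      intro h0
      apply h4
      have h6 : MulAut.congr f (MulAut.conjNormal t : MulAut ↥X) = MulAut.congr f 1 := by rw [h0, map_one]
      exact (MulAut.congr f).injective h6
    have h4' := LLin.four_le h1 hne
    rcases Nat.lt_or_ge n 6 with h6 | h6
    · have h7 : n = 4 ∨ n = 5 := by omega
      rcases h7 with rfl | rfl
      · exact Or.inl ⟨f⟩
      · exact Or.inr (Or.inl ⟨f⟩)
    · exfalso
      have hchar : CharP K 3 := by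
        have hp := Fact.mk Nat.prime_three
        exact charP_of_card_eq_prime_pow (f := 1) (by rw [hK]; norm_num)
      have hlie : IsLieTypeChar 3 ↥X := Or.inl ⟨K, inferInstance, inferInstance, hchar, n, by omega, by omega, ⟨f⟩⟩
      have hdvd : 3 ^ 5 ∣ Nat.card ↥X := by
        refine dvd_of_typ (t := .L n) (k := 1) ⟨le_rfl, by omega, by omega⟩ ⟨K, inferInstance, inferInstance, by
          rw [hK]; norm_num, ⟨f⟩⟩ le_rfl ?_
        change 5 ≤ n * (n - 1) / 2
        rw [Nat.le_div_iff_mul_le (by norm_num)]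
        have h8 : 6 * 5 ≤ n * (n - 1) := Nat.mul_le_mul h6 (by omega)
        omega
      obtain ⟨a, b, ha, hb, haa, hbb, hab, ha1, hb1, hne⟩ := LLin.four_group f h6 h1 (LThree.three_two hK).2 h5
      refine no_four hC hlie hdvd hL hLX hF e ?_
      have key : ∀ {c : ↥(fixedSubgroup (MulAut.conjNormal t : MulAut ↥X))}, (∀ g ∈ BB X L t, c * g = g * c) →
          ((c : ↥X) : G) ∈ centralizer (L : Set G) := by
        intro c hc
        rw [mem_centralizer_iff]
        intro l hl
        have h7 := hc ⟨⟨l, hLX hl⟩, le_fix htL (mem_subgroupOf.2 hl)⟩ hl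
        exact (congrArg (fun z : ↥(fixedSubgroup (MulAut.conjNormal t : MulAut ↥X)) => ((z : ↥X) : G)) h7).symm
      have key2 : ∀ {c : ↥(fixedSubgroup (MulAut.conjNormal t : MulAut ↥X))}, c * c = 1 → c ≠ 1 →
          orderOf ((c : ↥X) : G) = 2 := by
        intro c hc hc1
        rw [Subgroup.orderOf_coe, Subgroup.orderOf_coe]
        exact orderOf_eq_prime (by rw [pow_two]; exact hc) hc1
      exact ⟨_, _, key ha, key hb, key2 haa ha1, key2 hbb hb1,
        congrArg (fun z : ↥(fixedSubgroup (MulAut.conjNormal t : MulAut ↥X)) => ((z : ↥X) : G)) hab,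
        fun h => hne (Subtype.ext (Subtype.ext h))⟩

end std

section main

variable {G : Type u} [Group G] [Finite G] {L : Subgroup G} {F : Type v} [Field F] [Fintype F]

/-- **The theorem.** -/
theorem main (hk : ∀ (X : Type u) [Group X] [Finite X] [IsSimpleGroup X], IsKnownSimple' X) (hO : oddCore G = ⊥)
    (hL : IsStandardSubgroup L) (hF : Fintype.card F = 3) (e : ↥L ≃* Matrix.ProjectiveSpecialLinearGroup (Fin 3) F) :
    L.Normal ∨ (normalClosure (L : Set G) = generalizedFittingSubgroup G ∧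
      ((∃ (K : Type) (_ : Field K) (_ : Fintype K), Fintype.card K = 9 ∧
          Nonempty (↥(generalizedFittingSubgroup G) ≃* Matrix.ProjectiveSpecialLinearGroup (Fin 3) K)) ∨
        Nonempty (↥(generalizedFittingSubgroup G) ≃* Matrix.ProjectiveSpecialLinearGroup (Fin 4) F) ∨
        Nonempty (↥(generalizedFittingSubgroup G) ≃* Matrix.ProjectiveSpecialLinearGroup (Fin 5) F) ∨
        Nonempty (↥(generalizedFittingSubgroup G) ≃* PSp 3 F) ∨
        (Nonempty (↥(generalizedFittingSubgroup G) ≃* ↥L × ↥L) ∧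
          ∃ u : G, orderOf u = 2 ∧ centralizer (L : Set G) = zpowers u))) := by
  by_cases hn : L.Normal
  · exact Or.inl hn
  right
  have : Fact (Nat.Prime 2) := ⟨Nat.prime_two⟩
  obtain ⟨t', ht'⟩ := exists_prime_orderOf_dvd_card' 2 hL.2.1.1.two_dvd
  obtain ⟨t, htL, ht⟩ : ∃ t ∈ centralizer (L : Set G), orderOf t = 2 :=
    ⟨t', t'.2, by rw [Subgroup.orderOf_coe, ht']⟩
  have h2 : pCore 2 G = ⊥ := by
    by_contra h
    exact hn (StandardTrichotomy.normal_of_pCore_ne_bot hL ht htL h)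
  have hC := StandardTrichotomy.centralizer_layer_eq_bot hO h2
  have hlay : generalizedFittingSubgroup G = layer G := by
    have h3 : fittingSubgroup G = ⊥ := by
      have := CompOrbit.fittingSubgroup_le_pCore (p := 2) hO
      rw [h2] at this
      exact le_bot_iff.mp this
    change layer G ⊔ fittingSubgroup G = layer G
    rw [h3, sup_bot_eq]
  rw [hlay]
  have htt : t * t = 1 := by rw [← pow_two, ← ht, pow_orderOf_eq_one]
  rcases S1347.result L hL hO t ht htL with h1 | ⟨X, a1, a2, a3, a4, a5, a6, a7⟩ | ⟨hle, h3, h4⟩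
  · exact absurd h1 hn
  · have W : H293.StdOdd.Wr L X t := ⟨a1, a2, a3, a4, a5, a6, S1347.le_layer hL hO t ht htL hC, htt, htL⟩
    exact ⟨W.closure_eq, Or.inr (Or.inr (Or.inr (Or.inr ⟨H293.G2Std.wr_layer W, t, ht, a7⟩)))⟩
  · have hln : (layer G).Normal := layer_normal G
    obtain ⟨F', iF1, iF2, hF'⟩ : ∃ (F' : Type) (_ : Field F') (_ : Fintype F'), Fintype.card F' = 3 :=
      ⟨ZMod 3, ZMod.instField 3 (hp := ⟨Nat.prime_three⟩), inferInstance, ZMod.card 3⟩
    have cg : ∀ (K : Type) [Field K] [Fintype K], Fintype.card K = 3 → Nonempty (K ≃+* F) := fun K _ _ hK =>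
      ⟨FiniteField.ringEquivOfCardEq (hK.trans hF.symm)⟩
    obtain ⟨r⟩ := cg F' hF'
    refine ⟨?_, ?_⟩
    · refine le_antisymm (normalClosure_le_normal hle) ?_
      have h5 : ((normalClosure (L : Set G)).subgroupOf (layer G)).Normal := inferInstance
      rcases h5.eq_bot_or_eq_top with h6 | h6
      · exfalso
        rw [subgroupOf_eq_bot] at h6
        have h7 : L ≤ ⊥ := by
          rw [← disjoint_iff.1 h6]
          exact le_inf le_normalClosure hle
        have h8 := quasisimple_nontrivial hL.1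
        rw [le_bot_iff.1 h7] at h8
        exact not_nontrivial _ h8
      · exact subgroupOf_eq_top.1 h6
    · rcases simple_case hC h4 (hk _) hL hle hF' (e.trans (LieClassical.FieldTransfer.pslCongr r).symm) ht htL with
        h5 | ⟨K, _, _, hK, h5⟩
      · exact Or.inl h5
      · right
        obtain ⟨s⟩ := cg K hK
        rcases h5 with ⟨⟨f⟩⟩ | ⟨⟨f⟩⟩ | ⟨⟨f⟩⟩
        · exact Or.inl ⟨f.trans (LieClassical.FieldTransfer.pslCongr s)⟩
        · exact Or.inr (Or.inl ⟨f.trans (LieClassical.FieldTransfer.pslCongr s)⟩)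
        · exact Or.inr (Or.inr (Or.inl ⟨f.trans (LieClassical.FieldTransfer.pspCongr 3 s)⟩))

end main

end Cfsg.Agent.H974.SForty
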