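import Cfsg.Agent.H974.LLin_mg_m3
import Cfsg.Agent.H284.FStd
import Cfsg.Agent.FastGrp
import Cfsg.Agent.Prune
set_option linter.all false
prune_inst 0x7f00000000000000000000000000000000000000000000000000000000000000000000000000000000000000000000000000000000000000000000000000000000000000000000000000000000000000003fffffffffffffffffffffffffffbeffbdffffffff
open scoped Cfsg.Agent.FastGrp

/-!
# Standard subgroups `L₃(3)` centralized by a four-group (helper974)
-/

set_option autoImplicit false

namespace Cfsg.Agent.H974.SKlein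

open Cfsg Subgroup Cfsg.Agent.SignalizersComponents Cfsg.Agent.SignalizersComponents.Components
  Cfsg.Agent.H284.FStd

universe u

/-- a four-group -/
theorem exists_klein {M : Type*} [Group M] {a b : M} (ha : a * a = 1) (hb : b * b = 1) (hab : a * b = b * a)
    (ha1 : a ≠ 1) (hb1 : b ≠ 1) (hne : a ≠ b) :
    ∃ V : Subgroup M, IsKleinFour ↥V ∧ ∀ v ∈ V, v = 1 ∨ v = a ∨ v = b ∨ v = a * b := by
  have h1 : a * (a * b) = b := by rw [← mul_assoc, ha, one_mul]
  have h2 : b * (a * b) = a := by rw [← mul_assoc, ← hab, mul_assoc, hb, mul_one]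
  have h3 : a * b * a = b := by rw [hab, mul_assoc, ha, mul_one]
  have h4 : a * b * b = a := by rw [mul_assoc, hb, mul_one]
  have h5 : a * b * (a * b) = 1 := by rw [← mul_assoc, h3, hb]
  have hai : a⁻¹ = a := inv_eq_of_mul_eq_one_left ha
  have hbi : b⁻¹ = b := inv_eq_of_mul_eq_one_left hb
  have habi : (a * b)⁻¹ = a * b := inv_eq_of_mul_eq_one_left h5
  let V : Subgroup M :=
    { carrier := {1, a, b, a * b}
      one_mem' := by simp
      mul_mem' := by
        rintro x y (rfl | rfl | rfl | rfl) (rfl | rfl | rfl | rfl)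
        · simp
        · simp
        · simp
        · simp
        · simp
        · rw [ha]; simp
        · simp
        · rw [h1]; simp
        · simp
        · rw [← hab]; simp
        · rw [hb]; simp
        · rw [h2]; simp
        · simp
        · rw [h3]; simp
        · rw [h4]; simp
        · rw [h5]; simp
      inv_mem' := by
        rintro x (rfl | rfl | rfl | rfl)
        · simp
        · rw [hai]; simp
        · rw [hbi]; simp
        · rw [habi]; simp }
  have hmem : ∀ v ∈ V, v = 1 ∨ v = a ∨ v = b ∨ v = a * b := fun v hv => hv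
  refine ⟨V, ?_, hmem⟩
  have hcard : Nat.card ↥V = 4 := by
    have h6 : Nat.card ↥V = ({1, a, b, a * b} : Set M).ncard := rfl
    have h7 : a ≠ a * b := fun h => hb1 (by
      have := congrArg (fun z => a * z) h
      simp only [ha, h1] at this
      exact this.symm)
    have h8 : b ≠ a * b := fun h => ha1 (by
      have := congrArg (fun z => z * b) h
      simp only [hb, h4] at this
      exact this.symm)
    have h9 : (1 : M) ≠ a * b := fun h => hne (by
      have := congrArg (fun z => z * b) h
      simp only [one_mul, h4] at this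
      exact this.symm)
    classical
    rw [h6]
    have h10 : ({1, a, b, a * b} : Set M) = (({1, a, b, a * b} : Finset M) : Set M) := by simp
    rw [h10, Set.ncard_coe_finset]
    rw [Finset.card_insert_of_notMem, Finset.card_insert_of_notMem, Finset.card_insert_of_notMem, Finset.card_singleton]
    · simp [h8]
    · simp [hne, h7]
    · simp only [Finset.mem_insert, Finset.mem_singleton, not_or]
      exact ⟨ha1.symm, hb1.symm, h9⟩
  refine ⟨hcard, ?_⟩
  have hsq : ∀ v : ↥V, v ^ 2 = 1 := by
    rintro ⟨v, hv⟩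
    apply Subtype.ext
    change v ^ 2 = 1
    rw [pow_two]
    rcases hmem v hv with rfl | rfl | rfl | rfl
    · simp
    · exact ha
    · exact hb
    · exact h5
  have h6 : Monoid.exponent ↥V ∣ 2 := Monoid.exponent_dvd_of_forall_pow_eq_one hsq
  rcases (Nat.dvd_prime Nat.prime_two).1 h6 with h7 | h7
  · exfalso
    have h8 := Monoid.pow_exponent_eq_one (⟨a, by exact Or.inr (Or.inl rfl)⟩ : ↥V)
    rw [h7, pow_one] at h8
    exact ha1 (congrArg Subtype.val h8)
  · exact h7

section main

variable {G : Type u} [Group G] [Finite G] {X L : Subgroup G} [hX : X.Normal] {F : Type} [Field F] [Fintype F]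

/-- two commuting involutions of `C_G(L)` -/
def Four (L : Subgroup G) : Prop :=
  ∃ u v : G, u ∈ centralizer (L : Set G) ∧ v ∈ centralizer (L : Set G) ∧ orderOf u = 2 ∧ orderOf v = 2 ∧
    u * v = v * u ∧ u ≠ v

/-- **No four-groups.** -/
theorem no_four (hC : centralizer (X : Set G) = ⊥) [IsSimpleGroup ↥X] (h3 : IsLieTypeChar 3 ↥X)
    (h5 : 3 ^ 5 ∣ Nat.card ↥X) (hL : IsStandardSubgroup L) (hLX : L ≤ X) (hF : Fintype.card F = 3)
    (e : ↥L ≃* Matrix.ProjectiveSpecialLinearGroup (Fin 3) F) (h : Four L) : False := by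
  obtain ⟨u, v, hu, hv, hu2, hv2, huv, hne⟩ := h
  have hinj : Function.Injective (MulAut.conjNormal : G →* MulAut ↥X) := by
    rw [injective_iff_map_eq_one]
    intro g hg
    have h1 : g ∈ centralizer (X : Set G) := by
      rw [mem_centralizer_iff]
      intro y hy
      have h2 := congrArg (fun f : MulAut ↥X => ((f ⟨y, hy⟩ : ↥X) : G)) hg
      change (((MulAut.conjNormal g : MulAut ↥X) ⟨y, hy⟩ : ↥X) : G) = y at h2
      rw [MulAut.conjNormal_apply] at h2
      exact (mul_inv_eq_iff_eq_mul.1 h2).symm
    rwa [hC, mem_bot] at h1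
  have sq : ∀ {w : G}, orderOf w = 2 → w * w = 1 := fun {w} hw => by rw [← pow_two, ← hw, pow_orderOf_eq_one]
  have ne1 : ∀ {w : G}, orderOf w = 2 → w ≠ 1 := fun {w} hw h => by rw [h, orderOf_one] at hw; omega
  have huv2 : orderOf (u * v) = 2 := by
    refine orderOf_eq_prime ?_ ?_
    · rw [pow_two]
      calc u * v * (u * v) = u * (v * u) * v := by group
        _ = (u * u) * (v * v) := by rw [← huv]; group
        _ = 1 := by rw [sq hu2, sq hv2, mul_one]
    · intro h
      apply hne
      have h1 := eq_inv_of_mul_eq_one_left h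
      rw [h1, inv_eq_of_mul_eq_one_left (sq hv2)]
  obtain ⟨V, hV, hVm⟩ := exists_klein (a := (MulAut.conjNormal u : MulAut ↥X)) (b := (MulAut.conjNormal v : MulAut ↥X))
    (by rw [← map_mul, sq hu2, map_one]) (by rw [← map_mul, sq hv2, map_one]) (by rw [← map_mul, huv, map_mul])
    (fun h => ne1 hu2 (hinj (by rw [h, map_one]))) (fun h => ne1 hv2 (hinj (by rw [h, map_one])))
    (fun h => hne (hinj h))
  have hVw : ∀ w ∈ V, w ≠ 1 → ∃ g ∈ centralizer (L : Set G), orderOf g = 2 ∧ w = MulAut.conjNormal g := by
    intro w hw hw1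
    rcases hVm w hw with rfl | rfl | rfl | rfl
    · exact absurd rfl hw1
    · exact ⟨u, hu, hu2, rfl⟩
    · exact ⟨v, hv, hv2, rfl⟩
    · exact ⟨u * v, mul_mem hu hv, huv2, (map_mul _ _ _).symm⟩
  refine H234.NoKleinL3.no_klein h3 h5 (L.subgroupOf X) hF ((subgroupOfEquivOfLe hLX).trans e) V hV ?_ ?_
  · intro w hw a ha
    by_cases hw1 : w = 1
    · rw [hw1]; rfl
    · obtain ⟨g, hg, -, rfl⟩ := hVw w hw hw1
      exact le_fix hg ha
  · intro w hw hw1 x hx a ha
    obtain ⟨g, hg, hg2, rfl⟩ := hVw w hw hw1
    have hx' : (x : G) ∈ centralizer ({g} : Set G) := by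
      rw [mem_centralizer_singleton_iff]
      exact (mem_fix.1 hx).symm
    have h1 := StandardTrichotomy.centralizer_involution_le hL hg2 hg hx'
    exact (mem_normalizer_iff.1 h1 _).1 ha

end main

end Cfsg.Agent.H974.SKlein
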